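import Groth.Prelude.Def_TopMod
import Groth.Agent.S5826
import Mathlib

/-! # Left inverses of formally left invertible maps into complete modules -/

set_option autoImplicit false
set_option linter.style.haveILetI false
universe u v w

namespace Groth.Agent.LeftInv4

open Filter Topology

theorem module_torsion {A : Type u} [CommRing A] (J : Ideal A) {M : Type v} [AddCommGroup M] [Module A M]
    (S : Submodule A M) (h : (J • ⊤ : Submodule A M) ≤ S) : ∀ a ∈ J, ∀ y : M ⧸ S, a • y = 0 := fun a ha y => by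
  obtain ⟨m, rfl⟩ := Submodule.Quotient.mk_surjective _ y
  rw [← Submodule.Quotient.mk_smul, Submodule.Quotient.mk_eq_zero]
  exact h (Submodule.smul_mem_smul ha trivial)

/-- Lifting a retraction one step along a projective cokernel. -/
theorem exists_step {A : Type u} {M : Type v} {N : Type w} [CommRing A] [AddCommGroup M] [Module A M]
    [AddCommGroup N] [Module A N] (u : M →ₗ[A] N) (I J : Ideal A) (hJI : J ≤ I)
    [Module.Projective (A ⧸ J) ((N ⧸ LinearMap.range u) ⧸ (J • (⊤ : Submodule A (N ⧸ LinearMap.range u))))]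
    (w' : N →ₗ[A] M ⧸ (J • ⊤ : Submodule A M)) (hw' : ∀ x, w' (u x) = Submodule.Quotient.mk x)
    (w₀ : N →ₗ[A] M ⧸ (I • ⊤ : Submodule A M)) (hw₀ : ∀ x, w₀ (u x) = Submodule.Quotient.mk x) :
    ∃ w₁ : N →ₗ[A] M ⧸ (J • ⊤ : Submodule A M), (∀ x, w₁ (u x) = Submodule.Quotient.mk x) ∧
      (Submodule.factor (Submodule.smul_mono_left hJI)).comp w₁ = w₀ := by
  let C := (N ⧸ LinearMap.range u) ⧸ (J • (⊤ : Submodule A (N ⧸ LinearMap.range u)))
  let π : M ⧸ (J • ⊤ : Submodule A M) →ₗ[A] M ⧸ (I • ⊤ : Submodule A M) := Submodule.factor (Submodule.smul_mono_left hJI)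
  have hI0 : ∀ a ∈ J, ∀ y : M ⧸ (I • ⊤ : Submodule A M), a • y = 0 := module_torsion J _ (Submodule.smul_mono_left hJI)
  have hJ0 : ∀ a ∈ J, ∀ y : M ⧸ (J • ⊤ : Submodule A M), a • y = 0 := module_torsion J _ le_rfl
  let d : N →ₗ[A] M ⧸ (I • ⊤ : Submodule A M) := w₀ - π.comp w'
  have hd : LinearMap.range u ≤ LinearMap.ker d := by
    rintro _ ⟨x, rfl⟩
    show w₀ (u x) - π (w' (u x)) = 0
    rw [hw₀, hw', sub_eq_zero]
    rfl
  have hd' : (J • ⊤ : Submodule A (N ⧸ LinearMap.range u)) ≤ LinearMap.ker (Submodule.liftQ _ d hd) :=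
    Submodule.smul_le.2 fun a ha y _ => by rw [LinearMap.mem_ker, map_smul, hI0 a ha]
  let d' : C →ₗ[A] M ⧸ (I • ⊤ : Submodule A M) := Submodule.liftQ _ (Submodule.liftQ _ d hd) hd'
  letI : Module (A ⧸ J) (M ⧸ (I • ⊤ : Submodule A M)) := Module.IsTorsionBySet.module (fun y a => hI0 a.1 a.2 y)
  haveI : IsScalarTower A (A ⧸ J) (M ⧸ (I • ⊤ : Submodule A M)) :=
    Module.IsTorsionBySet.isScalarTower (fun y a => hI0 a.1 a.2 y)
  have hs : Function.Surjective (algebraMap A (A ⧸ J)) := Ideal.Quotient.mk_surjective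
  have hπ : Function.Surjective π := fun y => by
    obtain ⟨m, rfl⟩ := Submodule.Quotient.mk_surjective _ y
    exact ⟨Submodule.Quotient.mk m, rfl⟩
  obtain ⟨l, hl⟩ := Module.projective_lifting_property (π.extendScalarsOfSurjective hs)
    (d'.extendScalarsOfSurjective hs) hπ
  let l' : N →ₗ[A] M ⧸ (J • ⊤ : Submodule A M) :=
    ((l.restrictScalars A).comp (Submodule.mkQ _)).comp (Submodule.mkQ (LinearMap.range u))
  refine ⟨w' + l', fun x => ?_, LinearMap.ext fun y => ?_⟩
  · show w' (u x) + l (Submodule.Quotient.mk (Submodule.Quotient.mk (u x))) = _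
    rw [hw', show (Submodule.Quotient.mk (u x) : N ⧸ LinearMap.range u) = 0 from (Submodule.Quotient.mk_eq_zero _).2 ⟨x, rfl⟩,
      Submodule.Quotient.mk_zero, map_zero, add_zero]
  · show π (w' y + l (Submodule.Quotient.mk (Submodule.Quotient.mk y))) = _
    rw [map_add, show π (l (Submodule.Quotient.mk (Submodule.Quotient.mk y))) = d y from
      LinearMap.congr_fun hl (Submodule.Quotient.mk (Submodule.Quotient.mk y))]
    show π (w' y) + (w₀ y - π (w' y)) = _
    abel

theorem exists_leftInverse_of_retractions {A : Type u} {M : Type v} {N : Type w} [CommRing A] [AddCommGroup M]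
    [Module A M] [UniformSpace M] [IsUniformAddGroup M] [CompleteSpace M] [T2Space M] [AddCommGroup N] [Module A N]
    (𝔍 : ℕ → Ideal A) (h𝔍anti : Antitone 𝔍)
    (hbasis : (nhds (0 : M)).HasBasis (fun _ : ℕ => True) fun n => ((𝔍 n • ⊤ : Submodule A M) : Set M))
    (u : M → N) (wn : ∀ n, N →ₗ[A] M ⧸ (𝔍 n • ⊤ : Submodule A M))
    (hw : ∀ n x, wn n (u x) = Submodule.Quotient.mk x)
    (hcompat : ∀ n, (Submodule.factor (Submodule.smul_mono_left (h𝔍anti n.le_succ))).comp (wn (n + 1)) = wn n) :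
    ∃ w : N →ₗ[A] M, ∀ x : M, w (u x) = x := by
  let S : ℕ → Submodule A M := fun n => 𝔍 n • ⊤
  have hmono : ∀ {i j : ℕ}, i ≤ j → S j ≤ S i := fun h => Submodule.smul_mono_left (h𝔍anti h)
  have hclosed : ∀ n, IsClosed (S n : Set M) := fun n =>
    AddSubgroup.isClosed_of_isOpen _ ((S n).toAddSubgroup.isOpen_of_mem_nhds (hbasis.mem_of_mem (i := n) trivial))
  have hzero : ∀ x, (∀ n, x ∈ S n) → x = 0 := fun x hx => by
    by_contra hne
    obtain ⟨n, -, hn⟩ := hbasis.mem_iff.1 (isOpen_compl_singleton.mem_nhds (show (0 : M) ∈ ({x}ᶜ : Set M) from Ne.symm hne))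
    exact hn (hx n) rfl
  choose m hm using fun y n => Submodule.Quotient.mk_surjective _ (wn n y)
  have hdiff : ∀ y {i j : ℕ}, i ≤ j → m y j - m y i ∈ S i := fun y i j h => by
    induction j, h using Nat.le_induction with
    | base => rw [sub_self]; exact zero_mem _
    | succ j hj ih =>
      have h1 : m y (j + 1) - m y j ∈ S j := (Submodule.Quotient.eq _).1 (by
        rw [hm y j, ← hcompat j, LinearMap.comp_apply, ← hm y (j + 1)]
        rfl)
      rw [← sub_add_sub_cancel (m y (j + 1)) (m y j) (m y i)]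
      exact add_mem (hmono hj h1) ih
  have hlim : ∀ y, ∃ x : M, ∀ n, x - m y n ∈ S n := fun y => by
    obtain ⟨x, hx⟩ := cauchySeq_tendsto_of_complete (show CauchySeq (m y) from by
      refine (hbasis.uniformity_of_nhds_zero (α := M)).cauchySeq_iff.2 fun n _ => ⟨n, fun i hi j hj => ?_⟩
      show m y j - m y i ∈ S n
      rw [← sub_sub_sub_cancel_right (m y j) (m y i) (m y n)]
      exact sub_mem (hdiff y hj) (hdiff y hi))
    refine ⟨x, fun n => ?_⟩
    exact (hclosed n).mem_of_tendsto (hx.sub_const _) (eventually_atTop.2 ⟨n, fun j hj => hdiff y hj⟩)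
  choose f hf using hlim
  have hmk : ∀ y n, Submodule.Quotient.mk (f y) = wn n y := fun y n => by
    rw [← hm y n, Submodule.Quotient.eq]
    exact hf y n
  have huniq : ∀ y x, (∀ n, Submodule.Quotient.mk x = wn n y) → f y = x := fun y x hx =>
    sub_eq_zero.1 (hzero _ fun n => (Submodule.Quotient.eq _).1 ((hmk y n).trans (hx n).symm))
  refine ⟨{ toFun := f, map_add' := fun a b => huniq _ _ fun n => ?_, map_smul' := fun c a => huniq _ _ fun n => ?_ },
    fun x => huniq _ _ fun n => (hw n x).symm⟩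
  · rw [Submodule.Quotient.mk_add, hmk, hmk, map_add]
  · rw [Submodule.Quotient.mk_smul, hmk, map_smul, RingHom.id_apply]

theorem exists_leftInverse {A : Type u} {M : Type v} {N : Type w}
    [CommRing A] [TopologicalSpace A] [AddCommGroup M] [Module A M] [UniformSpace M] [IsUniformAddGroup M]
    [CompleteSpace M] [T2Space M] [AddCommGroup N] [Module A N] [TopologicalSpace N]
    (𝔍 : ℕ → Ideal A) (h𝔍open : ∀ n, IsOpen (𝔍 n : Set A)) (h𝔍anti : Antitone 𝔍)
    (h𝔍basis : (nhds (0 : A)).HasBasis (fun _ : ℕ => True) (fun n => (𝔍 n : Set A)))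
    (hM : TopMod.IsDeduced A M) (hN : TopMod.IsDeduced A N) (u : M →L[A] N)
    (hcoker : ∀ n, Module.Projective (A ⧸ 𝔍 n)
      ((N ⧸ LinearMap.range u.toLinearMap) ⧸ (𝔍 n • (⊤ : Submodule A (N ⧸ LinearMap.range u.toLinearMap)))))
    (h : TopMod.IsFormallyLeftInvertible u) : ∃ w : N →ₗ[A] M, ∀ x : M, w (u x) = x := by
  have hw := (Groth.Agent.S5826.result hM hN u).1 h
  have hbasis : (nhds (0 : M)).HasBasis (fun _ : ℕ => True) fun n => ((𝔍 n • ⊤ : Submodule A M) : Set M) := by
    refine hM.2.to_hasBasis (fun J hJ => ?_) fun n _ => ⟨𝔍 n, h𝔍open n, le_rfl⟩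
    obtain ⟨n, -, hn⟩ := h𝔍basis.mem_iff.1 (hJ.mem_nhds J.zero_mem)
    exact ⟨n, trivial, Submodule.smul_mono_left (show 𝔍 n ≤ J from hn)⟩
  choose w' hw' using fun n => hw (𝔍 n) (h𝔍open n)
  have hstep : ∀ n (w₀ : {w₀ : N →ₗ[A] M ⧸ (𝔍 n • ⊤ : Submodule A M) // ∀ x, w₀ (u x) = Submodule.Quotient.mk x}),
      ∃ w₁ : {w₁ : N →ₗ[A] M ⧸ (𝔍 (n + 1) • ⊤ : Submodule A M) // ∀ x, w₁ (u x) = Submodule.Quotient.mk x},
        (Submodule.factor (Submodule.smul_mono_left (h𝔍anti n.le_succ))).comp w₁.1 = w₀.1 := fun n w₀ => by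
    haveI := hcoker (n + 1)
    obtain ⟨w₁, h1, h2⟩ := exists_step u.toLinearMap (𝔍 n) (𝔍 (n + 1)) (h𝔍anti n.le_succ) (w' (n + 1)) (hw' _) w₀.1 w₀.2
    exact ⟨⟨w₁, h1⟩, h2⟩
  choose step hstep using hstep
  let ws : ∀ n, {w₀ : N →ₗ[A] M ⧸ (𝔍 n • ⊤ : Submodule A M) // ∀ x, w₀ (u x) = Submodule.Quotient.mk x} :=
    fun n => Nat.rec ⟨w' 0, hw' 0⟩ step n
  exact exists_leftInverse_of_retractions 𝔍 h𝔍anti hbasis u (fun n => (ws n).1) (fun n => (ws n).2)
    fun n => hstep n (ws n)

/-- A left inverse gives formal left invertibility. -/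
theorem isFormallyLeftInvertible_of_leftInverse {A : Type u} {M : Type v} {N : Type w}
    [CommRing A] [TopologicalSpace A] [AddCommGroup M] [Module A M] [TopologicalSpace M] [AddCommGroup N]
    [Module A N] [TopologicalSpace N] (hM : TopMod.IsDeduced A M) (hN : TopMod.IsDeduced A N) (u : M →L[A] N)
    (w : N →ₗ[A] M) (hw : ∀ x, w (u x) = x) : TopMod.IsFormallyLeftInvertible u :=
  (Groth.Agent.S5826.result hM hN u).2 fun J _ => ⟨(Submodule.mkQ _).comp w, fun x => by
    rw [LinearMap.comp_apply, hw]; rfl⟩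

/-- Cokernels of formally left invertible maps into formally projective modules are projective modulo open ideals. -/
theorem projective_coker {A : Type u} {M : Type v} {N : Type w} [CommRing A] [AddCommGroup M] [Module A M]
    [AddCommGroup N] [Module A N] (u : M →ₗ[A] N) (J : Ideal A)
    [Module.Projective (A ⧸ J) (N ⧸ (J • (⊤ : Submodule A N)))]
    (w : N →ₗ[A] M ⧸ (J • ⊤ : Submodule A M)) (hw : ∀ x, w (u x) = Submodule.Quotient.mk x) :
    Module.Projective (A ⧸ J) ((N ⧸ LinearMap.range u) ⧸ (J • (⊤ : Submodule A (N ⧸ LinearMap.range u)))) := by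
  have hker : (J • ⊤ : Submodule A M) ≤ LinearMap.ker ((Submodule.mkQ (J • ⊤ : Submodule A N)).comp u) :=
    Submodule.smul_le.2 fun a ha y _ => by
      rw [LinearMap.mem_ker, LinearMap.comp_apply, map_smul, Submodule.mkQ_apply, Submodule.Quotient.mk_eq_zero]
      exact Submodule.smul_mem_smul ha trivial
  let g : N →ₗ[A] N ⧸ (J • ⊤ : Submodule A N) := Submodule.mkQ _ - (Submodule.liftQ _ _ hker).comp w
  have hg : LinearMap.range u ≤ LinearMap.ker g := by
    rintro _ ⟨x, rfl⟩
    show Submodule.Quotient.mk (u x) - Submodule.liftQ _ _ hker (w (u x)) = 0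
    rw [hw, Submodule.liftQ_apply, LinearMap.comp_apply, Submodule.mkQ_apply, sub_self]
  have hg' : (J • ⊤ : Submodule A (N ⧸ LinearMap.range u)) ≤ LinearMap.ker (Submodule.liftQ _ g hg) :=
    Submodule.smul_le.2 fun a ha y _ => by
      rw [LinearMap.mem_ker, map_smul]
      exact module_torsion J _ le_rfl a ha _
  let s : ((N ⧸ LinearMap.range u) ⧸ (J • (⊤ : Submodule A (N ⧸ LinearMap.range u)))) →ₗ[A] N ⧸ (J • ⊤ : Submodule A N) :=
    Submodule.liftQ _ (Submodule.liftQ _ g hg) hg'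
  have hq : (J • ⊤ : Submodule A N) ≤ LinearMap.ker
      ((Submodule.mkQ (J • (⊤ : Submodule A (N ⧸ LinearMap.range u)))).comp (Submodule.mkQ (LinearMap.range u))) :=
    Submodule.smul_le.2 fun a ha y _ => by
      rw [LinearMap.mem_ker, map_smul]
      exact module_torsion J _ le_rfl a ha _
  let q := Submodule.liftQ _ _ hq
  have hs : Function.Surjective (algebraMap A (A ⧸ J)) := Ideal.Quotient.mk_surjective
  refine Module.Projective.of_split (s.extendScalarsOfSurjective hs) (q.extendScalarsOfSurjective hs)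
    (LinearMap.ext fun c => ?_)
  obtain ⟨c, rfl⟩ := Submodule.Quotient.mk_surjective _ c
  obtain ⟨y, rfl⟩ := Submodule.Quotient.mk_surjective _ c
  show q (Submodule.Quotient.mk y - Submodule.liftQ _ _ hker (w y)) = Submodule.Quotient.mk (Submodule.Quotient.mk y)
  obtain ⟨x, hx⟩ := Submodule.Quotient.mk_surjective _ (w y)
  rw [← hx, Submodule.liftQ_apply, LinearMap.comp_apply, Submodule.mkQ_apply, map_sub, Submodule.liftQ_apply,
    Submodule.liftQ_apply]
  show Submodule.Quotient.mk (Submodule.Quotient.mk y) - Submodule.Quotient.mk (Submodule.Quotient.mk (u x)) = _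
  rw [show (Submodule.Quotient.mk (u x) : N ⧸ LinearMap.range u) = 0 from (Submodule.Quotient.mk_eq_zero _).2 ⟨x, rfl⟩,
    Submodule.Quotient.mk_zero, sub_zero]

end Groth.Agent.LeftInv4
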